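import Mathlib.RingTheory.Smooth.Fiber
import Mathlib.RingTheory.Flat.EquationalCriterion
import Mathlib.RingTheory.FinitePresentation
import Mathlib.RingTheory.Localization.Away.Basic
import Mathlib.RingTheory.Kaehler.Basic

/-!
Galois coordinates give etaleness: if `d * r = ∑ T (y i * r) • x i` and `∑ x i * y i = d`,
then `R[1/d]` is etale over `B` (no finiteness assumed).
-/

set_option autoImplicit false

namespace Groth.Agent.InertiaEtale

universe u

open MvPolynomial

variable {B R : Type u} [CommRing B] [CommRing R] [Algebra B R] {ι : Type u} [Fintype ι]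
  {x y : ι → R} {T : R →ₗ[B] B} {d : R}

/-- Unramified. -/
theorem formallyUnramified (hdec : ∀ r, d * r = ∑ i, T (y i * r) • x i) (hxy : ∑ i, x i * y i = d) :
    Algebra.FormallyUnramified B (Localization.Away d) := by
  haveI : Subsingleton (KaehlerDifferential B (Localization.Away d)) := by
    set f := IsScalarTower.toAlgHom B R (Localization.Away d)
    set D := KaehlerDifferential.D B (Localization.Away d)
    have hdu : IsUnit (f d) := IsLocalization.Away.algebraMap_isUnit d
    have key : ∀ r, ∑ i, f (x i) • D (f (d * (y i * r))) = ∑ j, f (d * (y j * r)) • D (f (x j)) := by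
      intro r
      have h1 : ∀ i, D (f (d * (y i * r))) = ∑ j, T (y j * (y i * r)) • D (f (x j)) := fun i => by
        rw [hdec (y i * r), map_sum, map_sum]
        exact Finset.sum_congr rfl fun j _ => by rw [map_smul, Derivation.map_smul]
      simp only [h1, Finset.smul_sum]
      rw [Finset.sum_comm]
      refine Finset.sum_congr rfl fun j _ => ?_
      rw [hdec (y j * r), map_sum, Finset.sum_smul]
      refine Finset.sum_congr rfl fun i _ => ?_
      rw [map_smul, smul_assoc, smul_comm, mul_left_comm]
    have hker : ∀ r, D (f r) = 0 := fun r => by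
      have h := key r
      simp only [show ∀ i, d * (y i * r) = (d * y i) * r from fun i => (mul_assoc _ _ _).symm,
        map_mul, Derivation.leibniz, smul_add, Finset.sum_add_distrib] at h
      have h0 := key 1
      simp only [mul_one, map_mul, Derivation.leibniz, smul_add, Finset.sum_add_distrib] at h0
      have e1 : ∑ i, f (x i) • (f d * f (y i)) • D (f r) = (f d * f d) • D (f r) := by
        have hsum : ∑ i, f (x i) * f (y i) = f d := by simp only [← map_mul, ← map_sum, hxy]
        conv_rhs => arg 1; arg 2; rw [← hsum]
        rw [Finset.mul_sum, Finset.sum_smul]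
        refine Finset.sum_congr rfl fun i _ => ?_
        rw [smul_smul]
        congr 1
        ring
      have e2 : ∀ (a : ι → KaehlerDifferential B (Localization.Away d)),
          ∑ i, f (x i) • f r • a i = f r • ∑ i, f (x i) • a i := fun a => by
        rw [Finset.smul_sum]; exact Finset.sum_congr rfl fun i _ => smul_comm _ _ _
      rw [e1, ← Finset.sum_add_distrib, ← Finset.sum_congr rfl (fun i (_ : i ∈ Finset.univ) => smul_add _ _ _)] at h
      simp only [← smul_add (f r)] at h
      rw [e2] at h
      simp only [smul_add, Finset.sum_add_distrib] at h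
      rw [← smul_add, h0] at h
      have e3 : ∑ j, (f d * f (y j) * f r) • D (f (x j)) = f r • ∑ j, (f d * f (y j)) • D (f (x j)) := by
        rw [Finset.smul_sum]
        exact Finset.sum_congr rfl fun j _ => by rw [smul_smul, mul_comm (f r)]
      rw [e3, add_eq_right] at h
      exact (hdu.mul hdu).smul_eq_zero.1 h
    rw [subsingleton_iff_forall_eq 0]
    suffices h : ∀ z, D z = 0 by
      intro w
      have hw : w ∈ (⊤ : Submodule (Localization.Away d) _) := Submodule.mem_top
      rw [← KaehlerDifferential.span_range_derivation] at hw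
      refine Submodule.span_induction ?_ rfl (fun a b _ _ ha hb => by rw [ha, hb, add_zero])
        (fun c a _ ha => by rw [ha, smul_zero]) hw
      rintro _ ⟨z, rfl⟩
      exact h z
    intro z
    obtain ⟨⟨r, s⟩, hz⟩ := IsLocalization.surj (Submonoid.powers d) z
    have h := congrArg D hz
    rw [Derivation.leibniz, show algebraMap R (Localization.Away d) (s : R) = f s from rfl, hker,
      smul_zero, zero_add, show algebraMap R (Localization.Away d) r = f r from rfl, hker] at h
    exact (IsLocalization.map_units (Localization.Away d) s).smul_eq_zero.1 h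
  exact ⟨inferInstance⟩


/-- Flat. -/
theorem flat (hdec : ∀ r, d * r = ∑ i, T (y i * r) • x i) : Module.Flat B (Localization.Away d) := by
  rw [Module.Flat.iff_forall_isTrivialRelation]
  intro l f z hz
  obtain ⟨a, ha⟩ := IsLocalization.exist_integer_multiples_of_finite (Submonoid.powers d) z
  choose r hr using ha
  have hmap : ∀ (b : B) (t : R), algebraMap R (Localization.Away d) (b • t) =
      b • algebraMap R (Localization.Away d) t :=
    fun b t => map_smul (IsScalarTower.toAlgHom B R (Localization.Away d)) b t
  have hs : algebraMap R (Localization.Away d) (∑ k, f k • r k) = 0 := by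
    rw [map_sum, ← smul_zero ((a : R)), ← hz, Finset.smul_sum]
    exact Finset.sum_congr rfl fun k _ => by
      rw [hmap, hr k, smul_comm]
  obtain ⟨c, hc⟩ := (IsLocalization.map_eq_zero_iff (Submonoid.powers d) (Localization.Away d) _).1 hs
  have hrel : ∀ i, ∑ k, f k * T (y i * ((c : R) * r k)) = 0 := fun i => by
    rw [← map_zero T, ← mul_zero (y i), ← hc, Finset.mul_sum, Finset.mul_sum, map_sum]
    exact Finset.sum_congr rfl fun k _ => by
      rw [mul_smul_comm, mul_smul_comm, map_smul, smul_eq_mul]
  have hdu : IsUnit (algebraMap R (Localization.Away d) (d * (c * a : Submonoid.powers d))) := by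
    rw [map_mul]
    exact (IsLocalization.Away.algebraMap_isUnit d).mul (IsLocalization.map_units _ _)
  obtain ⟨u, hu⟩ := hdu
  let e := (Fintype.equivFin ι).symm
  refine ⟨Fintype.card ι, fun k i => T (y (e i) * ((c : R) * r k)),
    fun i => (u⁻¹ : (Localization.Away d)ˣ) * algebraMap R (Localization.Away d) (x (e i)), fun k => ?_,
    fun i => hrel (e i)⟩
  rw [e.sum_comp (fun i => T (y i * ((c : R) * r k)) •
    ((u⁻¹ : (Localization.Away d)ˣ) * algebraMap R (Localization.Away d) (x i)))]
  simp only [← mul_smul_comm, ← Finset.mul_sum, ← hmap, ← map_sum, ← hdec]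
  rw [Units.eq_inv_mul_iff_mul_eq, hu, map_mul, map_mul, map_mul, hr k, Algebra.smul_def,
    Submonoid.coe_mul, map_mul]
  ring

/-- Of finite presentation. -/
theorem finitePresentation (hdec : ∀ r, d * r = ∑ i, T (y i * r) • x i) :
    Algebra.FinitePresentation B (Localization.Away d) := by
  classical
  let P := MvPolynomial (Option ι) B
  let lin : R →ₗ[B] P := ∑ k, (T.comp (LinearMap.mulLeft B (y k))).smulRight (X (some k))
  have hlin : ∀ r, lin r = ∑ k, T (y k * r) • X (some k) := fun r => by
    simp [lin, LinearMap.sum_apply]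
  let f := IsScalarTower.toAlgHom B R (Localization.Away d)
  have hdu : IsUnit (f d) := IsLocalization.Away.algebraMap_isUnit d
  let π : P →ₐ[B] Localization.Away d := aeval fun o => o.elim (hdu.unit⁻¹ : (Localization.Away d)ˣ) fun i => f (x i)
  have hπs : ∀ i, π (X (some i)) = f (x i) := fun i => aeval_X _ _
  have hπn : π (X none) = (hdu.unit⁻¹ : (Localization.Away d)ˣ) := aeval_X _ _
  have hπlin : ∀ r, π (lin r) = f d * f r := fun r => by
    rw [hlin, map_sum, ← map_mul, hdec, map_sum]
    exact Finset.sum_congr rfl fun k _ => by rw [map_smul, map_smul, hπs]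
  let rels : Finset P := insert (X none * lin 1 - 1)
    ((Finset.univ.image fun i => lin (x i) - lin 1 * X (some i)) ∪
      (Finset.univ.image fun p : ι × ι => lin (x p.1 * x p.2) - lin 1 * (X (some p.1) * X (some p.2))))
  let J : Ideal P := Ideal.span (rels : Set P)
  have hJ : ∀ p ∈ J, π p = 0 := fun p hp => by
    have : J ≤ RingHom.ker π := Ideal.span_le.2 fun q hq => by
      simp only [rels, Finset.coe_insert, Finset.coe_union, Finset.coe_image, Finset.coe_univ,
        Set.image_univ, Set.mem_insert_iff, Set.mem_union, Set.mem_range] at hq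
      rw [SetLike.mem_coe, RingHom.mem_ker]
      rcases hq with rfl | ⟨i, rfl⟩ | ⟨⟨i, j⟩, rfl⟩
      · rw [map_sub, map_mul, hπn, hπlin, map_one, map_one, mul_one, IsUnit.val_inv_mul, sub_self]
      · rw [map_sub, map_mul, hπlin, hπlin, hπs, map_one, mul_one, sub_self]
      · rw [map_sub, map_mul π, map_mul π, hπlin, hπlin, hπs, hπs, map_one, mul_one, map_mul f, sub_self]
    exact this hp
  let m := Ideal.Quotient.mkₐ B J
  have hrel : ∀ p ∈ rels, m p = 0 := fun p hp =>
    Ideal.Quotient.eq_zero_iff_mem.2 (Ideal.subset_span hp)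
  have he : m (X none) * m (lin 1) = 1 := by
    rw [← map_mul, ← sub_eq_zero, ← map_one m, ← map_sub]
    exact hrel _ (Finset.mem_insert_self _ _)
  have hb : ∀ i, m (lin (x i)) = m (lin 1) * m (X (some i)) := fun i => by
    rw [← map_mul, ← sub_eq_zero, ← map_sub]
    exact hrel _ (Finset.mem_insert_of_mem (Finset.mem_union_left _ (Finset.mem_image.2 ⟨i, Finset.mem_univ _, rfl⟩)))
  have hc : ∀ i j, m (lin (x i * x j)) = m (lin 1) * (m (X (some i)) * m (X (some j))) := fun i j => by
    rw [← map_mul, ← map_mul, ← sub_eq_zero, ← map_sub]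
    exact hrel _ (Finset.mem_insert_of_mem (Finset.mem_union_right _
      (Finset.mem_image.2 ⟨(i, j), Finset.mem_univ _, rfl⟩)))
  -- `L r = lin r / lin 1`
  let L : R →ₗ[B] P ⧸ J := (LinearMap.mulLeft B (m (X none))).comp (m.toLinearMap.comp lin)
  have hL : ∀ r, L r = m (X none) * m (lin r) := fun r => rfl
  have hLx : ∀ i, L (x i) = m (X (some i)) := fun i => by
    rw [hL, hb, ← mul_assoc, he, one_mul]
  have hLd : ∀ r, L (d * r) = m (lin r) := fun r => by
    rw [hdec, map_sum, hlin, map_sum]
    exact Finset.sum_congr rfl fun k _ => by rw [map_smul, map_smul, hLx]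
  have hL1 : L d = m (lin 1) := by simpa using hLd 1
  have hL1' : L 1 = 1 := by rw [hL, he]
  have hlinmul : ∀ r, m (lin r) = m (lin 1) * L r := fun r => by
    rw [hL, ← mul_assoc, mul_comm (m (lin 1)), he, one_mul]
  have hmul : ∀ r s, L (r * s) = L r * L s := fun r s => by
    have hu : IsUnit (m (lin 1)) := IsUnit.of_mul_eq_one _ (by rw [mul_comm]; exact he)
    refine hu.mul_left_cancel (hu.mul_left_cancel ?_)
    have hxx : ∀ i j, L (x i * x j) = L (x i) * L (x j) := fun i j => by
      rw [hL, hc, hLx, hLx, ← mul_assoc, he, one_mul]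
    have h2 : L ((d * r) * (d * s)) = L (d * r) * L (d * s) := by
      rw [hdec r, hdec s, Finset.sum_mul_sum, map_sum, map_sum, map_sum, Finset.sum_mul_sum]
      refine Finset.sum_congr rfl fun i _ => ?_
      rw [map_sum]
      exact Finset.sum_congr rfl fun j _ => by
        rw [smul_mul_smul_comm, map_smul, map_smul, map_smul, hxx, smul_mul_smul_comm]
    rw [hLd, hLd, show d * r * (d * s) = d * (d * (r * s)) by ring, hLd, hlinmul, hLd,
      hlinmul (r * s), hlinmul r, hlinmul s] at h2
    linear_combination h2
  let Lh : R →ₐ[B] P ⧸ J := AlgHom.ofLinearMap L hL1' hmul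
  have hLhd : IsUnit (Lh d) := IsUnit.of_mul_eq_one (m (X none))
    (show L d * m (X none) = 1 by rw [hL1, mul_comm]; exact he)
  have hunits : ∀ s : Submonoid.powers d, IsUnit (Lh s) := by
    rintro ⟨_, n, rfl⟩
    simpa using hLhd.pow n
  let back : Localization.Away d →ₐ[B] P ⧸ J := IsLocalization.liftAlgHom (M := Submonoid.powers d) hunits
  let fwd : P ⧸ J →ₐ[B] Localization.Away d := Ideal.Quotient.liftₐ J π hJ
  have hback : ∀ r, back (f r) = L r := fun r => IsLocalization.lift_eq _ r
  have e1 : back.comp fwd = AlgHom.id B (P ⧸ J) := by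
    refine Ideal.Quotient.algHom_ext _ (MvPolynomial.algHom_ext fun o => ?_)
    change back (π (X o)) = m (X o)
    cases o with
    | some i => rw [hπs, hback, hLx]
    | none =>
      have h1 : back (π (X none)) * back (f d) = 1 := by
        rw [← map_mul, hπn, IsUnit.val_inv_mul, map_one]
      rw [hback, hL1] at h1
      calc back (π (X none)) = back (π (X none)) * (m (X none) * m (lin 1)) := by rw [he, mul_one]
        _ = m (X none) := by rw [mul_left_comm, h1, mul_one]
  have e2 : fwd.comp back = AlgHom.id B (Localization.Away d) := by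
    refine IsLocalization.algHom_ext (Submonoid.powers d) (AlgHom.ext fun r => ?_)
    change fwd (back (f r)) = f r
    rw [hback, hL, map_mul]
    change π (X none) * π (lin r) = f r
    rw [hπn, hπlin, ← mul_assoc, IsUnit.val_inv_mul, one_mul]
  haveI : Algebra.FinitePresentation B P := Algebra.FinitePresentation.mvPolynomial B B (Option ι)
  haveI : Algebra.FinitePresentation B (P ⧸ J) :=
    Algebra.FinitePresentation.quotient (Submodule.fg_span (Finset.finite_toSet rels))
  exact Algebra.FinitePresentation.equiv (AlgEquiv.ofAlgHom fwd back e2 e1)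

theorem etale_away (hdec : ∀ r, d * r = ∑ i, T (y i * r) • x i) (hxy : ∑ i, x i * y i = d) :
    Algebra.Etale B (Localization.Away d) :=
  haveI := formallyUnramified hdec hxy
  haveI := flat hdec
  haveI := finitePresentation hdec
  .of_formallyUnramified_of_flat

end Groth.Agent.InertiaEtale
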