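import Groth.Agent.InertiaEtale.Coord
import Mathlib

/-! The inertia field is étale below the prime. -/

set_option autoImplicit false
set_option linter.style.haveILetI false

universe u v

open scoped Pointwise
open Polynomial

noncomputable section

namespace Groth.Agent.InertiaEtale.Field

variable (A : Type u) {B : Type u} [CommRing A] [CommRing B] [Algebra A B] {G : Type v} [Group G] [Finite G]
  [MulSemiringAction G B] [SMulCommClass G A B] (P : Ideal B) [P.IsPrime]

include A in
/-- Outside the inertia group some inertia invariant moves modulo `P`. -/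
theorem exists_invariant_sub {σ : G} (hσ : σ ∉ P.inertia G) :
    ∃ c : B, (∀ τ ∈ P.inertia G, τ • c = c) ∧ σ • c - c ∉ P := by
  by_contra! hno
  let I := P.inertia G
  let D := FixedPoints.subalgebra A B I
  have hsub : ∀ d : D, σ • (d : B) - d ∈ P := fun d => hno d fun τ hτ => d.2 ⟨τ, hτ⟩
  haveI : SMulCommClass I D B := ⟨fun κ d a => by
    show (κ : G) • ((d : B) * a) = (d : B) * ((κ : G) • a)
    rw [smul_mul', show (κ : G) • (d : B) = d from d.2 κ]⟩
  haveI : Algebra.IsInvariant D B I := ⟨fun a h => ⟨⟨a, h⟩, rfl⟩⟩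
  obtain ⟨τ, hτ⟩ := Algebra.IsInvariant.exists_smul_of_under_eq D B I (σ⁻¹ • P) P (by
    ext d
    show (d : B) ∈ σ⁻¹ • P ↔ (d : B) ∈ P
    rw [Ideal.mem_pointwise_smul_iff_inv_smul_mem, inv_inv]
    exact ⟨fun h => by have h1 := P.sub_mem h (hsub d); rwa [sub_sub_cancel] at h1,
      fun h => by have h1 := P.add_mem (hsub d) h; rwa [sub_add_cancel] at h1⟩)
  have hτP : (τ : G) • P = P := Ideal.inertia_le_stabilizer (M := G) P τ.2
  have hρ : σ • P = P := by
    have h1 : P = (τ : G) • σ⁻¹ • P := hτ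
    have h2 : σ⁻¹ • P = P := by
      conv_lhs => rw [← inv_smul_smul (τ : G) (σ⁻¹ • P), ← h1]
      rw [inv_smul_eq_iff, hτP]
    conv_lhs => rw [← h2]
    exact smul_inv_smul σ P
  let Q : Ideal D := P.comap (algebraMap D B)
  haveI : P.LiesOver Q := ⟨rfl⟩
  have hmap : P = P.map ((MulSemiringAction.toRingEquiv G B σ : B ≃+* B) : B →+* B) := hρ.symm
  let e : (B ⧸ P) ≃+* (B ⧸ P) := Ideal.quotientEquiv P P (MulSemiringAction.toRingEquiv G B σ) hmap
  have he : ∀ x : B, e (Ideal.Quotient.mk P x) = Ideal.Quotient.mk P (σ • x) := fun x =>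
    Ideal.quotientEquiv_mk P P _ hmap x
  let f : (B ⧸ P) ≃ₐ[D ⧸ Q] (B ⧸ P) := AlgEquiv.ofRingEquiv (f := e) (fun q => by
    obtain ⟨d, rfl⟩ := Ideal.Quotient.mk_surjective q
    show e (Ideal.Quotient.mk P (d : B)) = Ideal.Quotient.mk P (d : B)
    rw [he]
    exact Ideal.Quotient.eq.2 (hsub d))
  obtain ⟨κ, hκ⟩ := Ideal.Quotient.stabilizerHom_surjective I Q P f
  refine hσ ?_
  rw [AddSubgroup.mem_inertia]
  intro x
  have h1 : σ • x - ((κ : I) : G) • x ∈ P := by
    refine Ideal.Quotient.eq.1 ?_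
    exact (he x).symm.trans (congrArg (fun g : (B ⧸ P) ≃ₐ[D ⧸ Q] (B ⧸ P) => g (Ideal.Quotient.mk P x)) hκ).symm
  have h2 : ((κ : I) : G) • x - x ∈ P := (κ : I).2 x
  have h3 := P.add_mem h1 h2
  rwa [sub_add_sub_cancel] at h3

include A in
/-- Coordinates. -/
theorem exists_coords (S : Finset G) (hS : ∀ σ ∈ S, σ ∉ P.inertia G) :
    ∃ (ι : Type u) (_ : Fintype ι) (x y : ι → B),
      (∀ k, ∀ τ ∈ P.inertia G, τ • x k = x k) ∧ (∀ k, ∀ τ ∈ P.inertia G, τ • y k = y k) ∧
      ∑ k, x k * y k ∉ P ∧ ∀ σ ∈ S, ∑ k, x k * σ • y k = 0 := by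
  classical
  induction S using Finset.induction_on with
  | empty =>
    refine ⟨PUnit, inferInstance, fun _ => 1, fun _ => 1, fun _ _ _ => smul_one _, fun _ _ _ => smul_one _, ?_, by simp⟩
    simpa using fun h => ‹P.IsPrime›.ne_top (P.eq_top_iff_one.2 h)
  | @insert σ S hσS ih =>
    obtain ⟨ι₂, _, x₂, y₂, hx₂, hy₂, hsum₂, hz₂⟩ := ih fun τ hτ => hS τ (Finset.mem_insert_of_mem hτ)
    have hσ := hS σ (Finset.mem_insert_self σ S)
    obtain ⟨c, hc, hcP⟩ := exists_invariant_sub A P hσ
    haveI := Fintype.ofFinite (P.inertia G)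
    let O : Finset B := Finset.univ.image fun τ : P.inertia G => (τ : G) • σ • c
    let f : B[X] := ∏ v ∈ O, (X - C v)
    have hf : ∀ τ ∈ P.inertia G, f.map (MulSemiringAction.toRingHom G B τ) = f := by
      intro τ hτ
      rw [Polynomial.map_prod]
      simp only [Polynomial.map_sub, map_X, map_C, MulSemiringAction.toRingHom_apply]
      refine Finset.prod_bij (fun v _ => τ • v) (fun v hv => ?_) (fun v _ w _ h => MulAction.injective τ h)
        (fun v hv => ?_) fun v _ => rfl
      · obtain ⟨κ, -, rfl⟩ := Finset.mem_image.1 hv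
        exact Finset.mem_image.2 ⟨⟨τ, hτ⟩ * κ, Finset.mem_univ _, by rw [Subgroup.coe_mul, mul_smul]⟩
      · obtain ⟨κ, -, rfl⟩ := Finset.mem_image.1 hv
        refine ⟨τ⁻¹ • (κ : G) • σ • c, Finset.mem_image.2 ⟨⟨τ, hτ⟩⁻¹ * κ, Finset.mem_univ _, ?_⟩, smul_inv_smul _ _⟩
        rw [Subgroup.coe_mul, InvMemClass.coe_inv, mul_smul]
    have hev : f.eval (σ • c) = 0 := by
      rw [eval_prod]
      refine Finset.prod_eq_zero (Finset.mem_image.2 ⟨1, Finset.mem_univ _, by rw [OneMemClass.coe_one, one_smul]⟩) ?_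
      simp
    have hevc : f.eval c ∉ P := by
      rw [eval_prod]
      intro h
      obtain ⟨v, hv, hvP⟩ := (Ideal.IsPrime.prod_mem_iff (p := P)).1 h
      obtain ⟨τ, -, rfl⟩ := Finset.mem_image.1 hv
      rw [eval_sub, eval_X, eval_C] at hvP
      apply hcP
      have h1 := τ.2 (σ • c)
      have h2 := P.add_mem hvP h1
      rw [sub_add_sub_cancel] at h2
      rw [← neg_sub]
      exact P.neg_mem h2
    have hsum₁ : ∀ z : B, ∑ k : ULift.{u} (Fin (f.natDegree + 1)), f.coeff k.down.1 * z ^ k.down.1 = f.eval z :=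
      fun z => by
        rw [eval_eq_sum_range, Finset.sum_range]
        exact Fintype.sum_equiv Equiv.ulift _ _ fun k => rfl
    refine ⟨ULift.{u} (Fin (f.natDegree + 1)) × ι₂, inferInstance, fun kl => f.coeff kl.1.down.1 * x₂ kl.2,
      fun kl => c ^ kl.1.down.1 * y₂ kl.2, fun kl τ hτ => ?_, fun kl τ hτ => ?_, ?_, fun ρ hρ => ?_⟩
    · rw [smul_mul', hx₂ _ τ hτ]
      congr 1
      exact (coeff_map _ _).symm.trans (congrArg (fun g : B[X] => g.coeff kl.1.down.1) (hf τ hτ))
    · rw [smul_mul', smul_pow', hc τ hτ, hy₂ _ τ hτ]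
    · intro h
      have heq : ∑ kl : ULift.{u} (Fin (f.natDegree + 1)) × ι₂, f.coeff kl.1.down.1 * x₂ kl.2 * (c ^ kl.1.down.1 * y₂ kl.2) =
          f.eval c * ∑ l, x₂ l * y₂ l := by
        rw [← hsum₁, Fintype.sum_mul_sum, Fintype.sum_prod_type]
        exact Finset.sum_congr rfl fun k _ => Finset.sum_congr rfl fun l _ => mul_mul_mul_comm _ _ _ _
      rw [heq] at h
      exact (‹P.IsPrime›.mem_or_mem h).elim hevc hsum₂
    · have heq : ∑ kl : ULift.{u} (Fin (f.natDegree + 1)) × ι₂, f.coeff kl.1.down.1 * x₂ kl.2 * ρ • (c ^ kl.1.down.1 * y₂ kl.2) =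
          f.eval (ρ • c) * ∑ l, x₂ l * ρ • y₂ l := by
        rw [← hsum₁, Fintype.sum_mul_sum, Fintype.sum_prod_type]
        refine Finset.sum_congr rfl fun k _ => Finset.sum_congr rfl fun l _ => ?_
        rw [smul_mul', smul_pow', mul_mul_mul_comm]
      rw [heq]
      rcases Finset.mem_insert.1 hρ with rfl | hρ
      · rw [hev, zero_mul]
      · rw [hz₂ ρ hρ, mul_zero]

theorem main (A K L B : Type u) [CommRing A] [IsDomain A]
    [IsDiscreteValuationRing A] [Field K] [Field L] [Algebra A K] [IsFractionRing A K] [Algebra K L]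
    [Algebra A L] [IsScalarTower A K L] [FiniteDimensional K L] [IsGalois K L]
    [CommRing B] [Algebra A B] [Algebra B L] [IsScalarTower A B L] [IsIntegralClosure B A L]
    [MulSemiringAction (L ≃ₐ[K] L) B]
    (hact : ∀ (σ : L ≃ₐ[K] L) (b : B), algebraMap B L (σ • b) = σ (algebraMap B L b))
    (m : Ideal B) [m.IsMaximal]
    (B' : Type u) [CommRing B'] [Algebra A B'] [Algebra B' B] [IsScalarTower A B' B] [Algebra B' L]
    [IsScalarTower B' B L]
    [Algebra B' (IntermediateField.fixedField (m.inertia (L ≃ₐ[K] L)))]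
    [IsScalarTower B' (IntermediateField.fixedField (m.inertia (L ≃ₐ[K] L))) L]
    [IsIntegralClosure B' A (IntermediateField.fixedField (m.inertia (L ≃ₐ[K] L)))] :
    (∀ b : B, (∀ σ ∈ m.inertia (L ≃ₐ[K] L), σ • b = b) ↔ b ∈ Set.range (algebraMap B' B)) ∧
      Algebra.Etale A (Localization.AtPrime (m.comap (algebraMap B' B))) := by
  classical
  let G := L ≃ₐ[K] L
  let I := m.inertia G
  let E := IntermediateField.fixedField I
  let j := algebraMap B' B
  have hiB : Function.Injective (algebraMap B L) := IsIntegralClosure.algebraMap_injective B A L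
  have hiB' : Function.Injective (algebraMap B' E) := IsIntegralClosure.algebraMap_injective B' A E
  have hjL : ∀ z : B', algebraMap B L (j z) = ((algebraMap B' E z : E) : L) := fun z =>
    (IsScalarTower.algebraMap_apply B' B L z).symm.trans (IsScalarTower.algebraMap_apply B' E L z)
  have hj : Function.Injective j := fun a b h => hiB' (Subtype.ext (by rw [← hjL, ← hjL, h]))
  haveI : SMulCommClass G A B := ⟨fun σ a b => hiB (by
    rw [hact, Algebra.smul_def, Algebra.smul_def, map_mul, map_mul, map_mul, hact,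
      ← IsScalarTower.algebraMap_apply A B L, IsScalarTower.algebraMap_apply A K L, AlgEquiv.commutes])⟩
  haveI : IsScalarTower A E L := IsScalarTower.of_algebraMap_eq fun a => rfl
  have part1 : ∀ b : B, (∀ σ ∈ I, σ • b = b) ↔ b ∈ Set.range j := by
    intro b
    refine ⟨fun h => ?_, ?_⟩
    · have hmem : algebraMap B L b ∈ E := fun σ => by
        show (σ : G) (algebraMap B L b) = algebraMap B L b
        rw [← hact, h σ σ.2]
      have hint : IsIntegral A (⟨_, hmem⟩ : E) := by
        rw [← isIntegral_algebraMap_iff (A := E) (B := L) (RingHom.injective _)]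
        exact ((IsIntegralClosure.isIntegral A L b).algebraMap : IsIntegral A (algebraMap B L b))
      refine ⟨IsIntegralClosure.mk' B' _ hint, hiB ?_⟩
      rw [hjL, IsIntegralClosure.algebraMap_mk']
    · rintro ⟨z, rfl⟩ σ hσ
      exact hiB (by rw [hact, hjL]; exact (algebraMap B' E z).2 ⟨σ, hσ⟩)
  refine ⟨part1, ?_⟩
  haveI : Algebra.IsSeparable K L := inferInstance
  haveI : Algebra.IsSeparable K E := Algebra.isSeparable_tower_bot_of_isSeparable K E L
  haveI : IsScalarTower A K E := IsScalarTower.of_algebraMap_eq fun a => Subtype.ext (IsScalarTower.algebraMap_apply A K L a)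
  haveI : IsScalarTower A B' E := IsScalarTower.of_algebraMap_eq fun a => Subtype.ext (by
    rw [← hjL, ← IsScalarTower.algebraMap_apply A B' B, ← IsScalarTower.algebraMap_apply A B L]
    rfl)
  haveI : Module.Finite A B' := IsIntegralClosure.finite A K E B'
  haveI : IsDomain B' := hiB'.isDomain
  let m' := m.comap j
  haveI hm' : m'.IsMaximal := by
    haveI : Algebra.IsIntegral A B := IsIntegralClosure.isIntegral_algebra A L
    haveI : Algebra.IsIntegral B' B := Algebra.IsIntegral.tower_top (R := A)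
    exact Ideal.isMaximal_comap_of_isIntegral_of_isMaximal m
  -- coordinates
  haveI := Fintype.ofFinite G
  obtain ⟨ι, _, x, y, hx, hy, hd, hzero⟩ := exists_coords A m (Finset.univ.filter fun σ : G => σ ∉ I)
    fun σ hσ => (Finset.mem_filter.1 hσ).2
  -- the element avoiding the other maximal ideals
  have hA : ∀ n : Ideal B', n.IsMaximal → n.comap (algebraMap A B') = IsLocalRing.maximalIdeal A := fun n hn =>
    IsLocalRing.eq_maximalIdeal (Ideal.isMaximal_comap_of_isIntegral_of_isMaximal n)
  have hfin : {n : Ideal B' | n.IsMaximal}.Finite :=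
    (Algebra.QuasiFinite.finite_primesOver (IsLocalRing.maximalIdeal A) (S := B')).subset fun n hn =>
      ⟨hn.isPrime, ⟨(hA n hn).symm⟩⟩
  obtain ⟨t, htm, ht⟩ : ∃ t : B', t ∉ m' ∧ ∀ n : Ideal B', n.IsMaximal → n ≠ m' → t ∈ n := by
    have h1 : ∀ n : Ideal B', n.IsMaximal ∧ n ≠ m' → ∃ e ∈ n, e ∉ m' := fun n hn => by
      by_contra! hle
      exact hn.2 (hn.1.eq_of_le hm'.ne_top hle)
    choose e he1 he2 using h1
    let F := hfin.toFinset.filter fun n => n ≠ m'
    have hF : ∀ n ∈ F, n.IsMaximal ∧ n ≠ m' := fun n hn =>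
      ⟨hfin.mem_toFinset.1 (Finset.mem_filter.1 hn).1, (Finset.mem_filter.1 hn).2⟩
    refine ⟨∏ n : F, e n.1 (hF n.1 n.2), fun h => ?_, fun n hn hne => ?_⟩
    · obtain ⟨n, -, hn⟩ := (Ideal.IsPrime.prod_mem_iff (p := m')).1 h
      exact he2 _ _ hn
    · have hnF : n ∈ F := Finset.mem_filter.2 ⟨hfin.mem_toFinset.2 hn, hne⟩
      exact Ideal.mem_of_dvd _ (Finset.dvd_prod_of_mem _ (Finset.mem_univ (⟨n, hnF⟩ : F))) (he1 n (hF n hnF))
  choose x' hx' using fun k => (part1 (x k)).1 (hx k)
  choose y' hy' using fun k => (part1 (y k)).1 (hy k)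
  let d : B' := t * ∑ k, x' k * y' k
  have hdm : d ∉ m' := fun h => by
    rcases hm'.isPrime.mem_or_mem h with h | h
    · exact htm h
    · refine hd ?_
      have h1 : j (∑ k, x' k * y' k) ∈ m := h
      rw [map_sum] at h1
      simp only [map_mul] at h1
      convert h1 using 1
      exact Finset.sum_congr rfl fun k _ => by rw [← hx' k, ← hy' k]
  -- the trace
  have hinv : ∀ b : B, (∀ g : G, g • b = b) → ∃ a : A, algebraMap A B a = b := by
    intro b hb
    obtain ⟨c, hc⟩ : algebraMap B L b ∈ Set.range (algebraMap K L) :=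
      (IsGalois.mem_range_algebraMap_iff_fixed _).2 fun g => by rw [← hact, hb]
    have hcint : IsIntegral A c := by
      rw [← isIntegral_algebraMap_iff (A := K) (B := L) (RingHom.injective _), hc]
      exact (IsIntegralClosure.isIntegral A L b).algebraMap
    obtain ⟨a, ha⟩ := (IsIntegrallyClosed.isIntegral_iff).1 hcint
    exact ⟨a, hiB (by rw [← IsScalarTower.algebraMap_apply, IsScalarTower.algebraMap_apply A K L, ha, hc])⟩
  let sumT : B' → B := fun z => ∑ q : G ⧸ I, q.out • j z
  have hsumT : ∀ z (g : G), g • sumT z = sumT z := by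
    intro z g
    rw [Finset.smul_sum]
    refine Fintype.sum_equiv (MulAction.toPerm g) _ _ fun q => ?_
    have h1 : (((g • q).out)⁻¹ * (g * q.out) : G) ∈ I := by
      rw [← QuotientGroup.eq, QuotientGroup.out_eq']
      show g • q = ((g • q.out : G) : G ⧸ I)
      rw [MulAction.Quotient.coe_smul_out]
    have h2 := (part1 (j z)).2 ⟨z, rfl⟩ _ h1
    rw [MulAction.toPerm_apply, ← mul_smul]
    conv_rhs => rw [← h2, ← mul_smul, mul_inv_cancel_left]
  choose T₀ hT₀ using fun z => hinv (sumT z) (hsumT z)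
  have hAB : Function.Injective (algebraMap A B) := fun a b h =>
    IsFractionRing.injective A K ((algebraMap K L).injective (by
      rw [← IsScalarTower.algebraMap_apply, ← IsScalarTower.algebraMap_apply, IsScalarTower.algebraMap_apply A B L, h,
        ← IsScalarTower.algebraMap_apply]))
  let T : B' →ₗ[A] A :=
    { toFun := T₀
      map_add' := fun a b => hAB (by
        rw [map_add, hT₀, hT₀, hT₀]
        simp only [sumT, map_add, smul_add, Finset.sum_add_distrib])
      map_smul' := fun a b => hAB (by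
        rw [RingHom.id_apply, smul_eq_mul, map_mul, hT₀, hT₀, ← Algebra.smul_def]
        simp only [sumT, j, algebraMap.smul', Finset.smul_sum]
        refine Finset.sum_congr rfl fun q _ => ?_
        rw [Algebra.smul_def, map_mul, ← IsScalarTower.algebraMap_apply, ← Algebra.smul_def, smul_comm]) }
  have hone : ((1 : G) : G ⧸ I).out ∈ I := by
    have h := QuotientGroup.mk_out_eq_mul I (1 : G)
    obtain ⟨⟨e, he⟩, h⟩ := h
    rw [h, one_mul]; exact he
  have hxy : ∑ k, t * x' k * y' k = d := by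
    show _ = t * _
    rw [Finset.mul_sum]
    exact Finset.sum_congr rfl fun k _ => mul_assoc _ _ _
  have hdec : ∀ r, d * r = ∑ k, T (y' k * r) • (t * x' k) := by
    intro r
    refine hj ?_
    rw [map_sum]
    have h1 : ∀ k, j (T (y' k * r) • (t * x' k)) = ∑ q : G ⧸ I, j t * ((x k * q.out • y k) * q.out • j r) := fun k => by
      rw [Algebra.smul_def, map_mul, ← IsScalarTower.algebraMap_apply A B' B, show T (y' k * r) = T₀ (y' k * r) from rfl, hT₀,
        map_mul, hx', Finset.sum_mul]
      refine Finset.sum_congr rfl fun q _ => ?_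
      rw [map_mul, hy', smul_mul']
      ring
    simp only [h1]
    rw [Finset.sum_comm, Finset.sum_eq_single ((1 : G) : G ⧸ I)]
    · have h2 : ∀ k, ((1 : G) : G ⧸ I).out • y k = y k := fun k => hy k _ hone
      simp only [h2, (part1 (j r)).2 ⟨r, rfl⟩ _ hone]
      show j (t * (∑ k, x' k * y' k) * r) = _
      rw [map_mul, map_mul, map_sum, Finset.mul_sum, Finset.sum_mul]
      exact Finset.sum_congr rfl fun k _ => by rw [map_mul, hx', hy']; ring
    · intro q _ hq
      have hqI : q.out ∉ I := fun h => hq (by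
        rw [← QuotientGroup.out_eq' q]
        exact QuotientGroup.eq.2 (by rw [mul_one]; exact I.inv_mem h))
      rw [← Finset.mul_sum, ← Finset.sum_mul, hzero q.out (Finset.mem_filter.2 ⟨Finset.mem_univ _, hqI⟩), zero_mul, mul_zero]
    · simp
  haveI := etale_away (x := fun k => t * x' k) (y := y') (T := T) (d := d) hdec hxy
  have hpow : Submonoid.powers d ≤ m'.primeCompl := Submonoid.powers_le.2 hdm
  haveI : IsLocalization m'.primeCompl (Localization.Away d) :=
    IsLocalization.of_le_of_exists_dvd (Submonoid.powers d) m'.primeCompl hpow fun s hs => by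
      have hrad : d ∈ (Ideal.span {s}).radical := by
        rw [Ideal.radical_eq_sInf, Ideal.mem_sInf]
        rintro n ⟨hsn, hn⟩
        have hs' : s ∈ n := hsn (Ideal.mem_span_singleton_self s)
        have hne : n ≠ ⊥ := fun h => by
          rw [h, Ideal.mem_bot] at hs'
          exact hs (hs' ▸ m'.zero_mem)
        have hnA : (n.comap (algebraMap A B')) ≠ ⊥ := Ideal.IsIntegral.comap_ne_bot A hne
        haveI : n.IsPrime := hn
        haveI hmax : (n.comap (algebraMap A B')).IsMaximal :=
          Ring.DimensionLEOne.maximalOfPrime hnA inferInstance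
        have hnmax : n.IsMaximal := Ideal.isMaximal_of_isIntegral_of_isMaximal_comap n hmax
        exact n.mul_mem_right _ (ht n hnmax fun h => hs (h ▸ hs'))
      obtain ⟨k, hk⟩ := hrad
      exact ⟨d ^ k, ⟨k, rfl⟩, Ideal.mem_span_singleton.1 hk⟩
  exact Algebra.Etale.of_equiv ((IsLocalization.algEquiv m'.primeCompl (Localization.Away d)
    (Localization.AtPrime m')).restrictScalars A)

end Groth.Agent.InertiaEtale.Field
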